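import Groth.Agent.L18.SpecLine
import Groth.Agent.L17.BC.PullSec

/-!
# Sections generating after pullback, and morphisms separated by sections

If pulled back sections combine to generating sections, they contain frames near the image. If moreover
the combined sections define a monomorphism into projective space, then so do the original sections on
the source of the pullback.
-/

set_option autoImplicit false
set_option linter.style.haveILetI false
set_option backward.isDefEq.respectTransparency false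

universe u

open CategoryTheory CategoryTheory.Limits AlgebraicGeometry TopologicalSpace Opposite

noncomputable section

namespace Groth.L12.CurveFam

open Groth.L18.Frame (IsFrame rs ro rs_rs rs_self rs_smul pull pull_smul pull_rs)

variable {Z X : Scheme.{u}}

/-- Frames map to frames under isomorphisms. -/
theorem isFrame_map {M N : X.Modules} (φ : M ≅ N) {W : X.Opens} {e : Γ(M, W)} (he : IsFrame M W e) :
    IsFrame N W (φ.hom.app W e) := fun V hV => by
  have e1 : (fun b : Γ(X, V) => b • rs N hV (φ.hom.app W e)) = φ.hom.app V ∘ fun b => b • rs M hV e := by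
    funext b
    simp only [Function.comp_apply, Scheme.Modules.Hom.app_smul]
    congr 1
    exact (Groth.L17.BC.PullSec.app_rs φ.hom hV e).symm
  rw [e1]
  exact (ConcreteCategory.bijective_of_isIso (φ.hom.app V)).comp (he V hV)

/-- If combinations of pulled back sections generate, some section is a frame near each image point. -/
theorem exists_frame_of_combination (φ : Z ⟶ X) {L : X.Modules} (hL : PicF.IsInvertible L) {A : X.Opens}
    (hA : ⊤ ≤ φ ⁻¹ᵁ A) {γ : Type} [Fintype γ] (S : γ → Γ(L, A)) {ι : Type} (a : ι → γ → Γ(Z, ⊤))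
    (ht : ∀ z : Z, ∃ (W : Z.Opens) (l : ι), z ∈ W ∧ IsFrame ((Scheme.Modules.pullback φ).obj L) W
      (rs _ le_top (∑ m, a l m • rs _ hA (pull φ L A (S m))))) (z : Z) :
    ∃ (W : X.Opens) (hW : W ≤ A) (m : γ), φ z ∈ W ∧ IsFrame L W (rs L hW (S m)) := by
  obtain ⟨W₀, e₀, hzW₀, he₀⟩ := Groth.L18.Frame.exists_frame hL (φ z)
  let W := W₀ ⊓ A
  have hWA : W ≤ A := inf_le_right
  have hzW : φ z ∈ W := ⟨hzW₀, hA (show z ∈ (⊤ : Z.Opens) from trivial)⟩
  have he := he₀.mono (inf_le_left : W ≤ W₀)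
  choose c hc using fun m => he.exists_coeff le_rfl (rs L hWA (S m))
  simp only [rs_self] at hc
  by_cases hex : ∃ m, φ z ∈ X.basicOpen (c m)
  · obtain ⟨m, hm⟩ := hex
    refine ⟨X.basicOpen (c m), (X.basicOpen_le (c m)).trans hWA, m, hm, ?_⟩
    have h5 := (he.mono (X.basicOpen_le (c m))).smul_unit
      (a := ro (X.basicOpen_le (c m)) (c m)) (RingedSpace.isUnit_res_basicOpen _ (c m))
    rwa [← rs_smul, hc, rs_rs] at h5
  exfalso
  simp only [not_exists] at hex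
  obtain ⟨W', l, hzW', hfr⟩ := ht z
  let U := φ ⁻¹ᵁ W ⊓ W'
  have hU₁ : U ≤ φ ⁻¹ᵁ W := inf_le_left
  have hU₂ : U ≤ W' := inf_le_right
  have hzU : z ∈ U := ⟨hzW, hzW'⟩
  let e' : Γ((Scheme.Modules.pullback φ).obj L, U) := rs _ hU₁ (pull φ L W (rs L inf_le_left e₀))
  have he' : IsFrame ((Scheme.Modules.pullback φ).obj L) U e' := (he.pullback φ L).mono hU₁
  let b : γ → Γ(Z, U) := fun m => ro le_top (a l m) * ro hU₁ (φ.app W (c m))
  have hterm : ∀ m, rs ((Scheme.Modules.pullback φ).obj L) (le_top : U ≤ ⊤)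
      (a l m • rs _ hA (pull φ L A (S m))) = b m • e' := fun m => by
    rw [rs_smul, rs_rs, mul_smul]
    congr 1
    rw [← rs_smul, ← pull_smul, hc, ← pull_rs φ L hWA (S m), rs_rs]
  have hsum : rs ((Scheme.Modules.pullback φ).obj L) (le_top : U ≤ ⊤)
      (∑ m, a l m • rs _ hA (pull φ L A (S m))) = (∑ m, b m) • e' := by
    rw [Finset.sum_smul, ← Finset.sum_congr rfl fun m _ => hterm m]
    exact map_sum (((Scheme.Modules.pullback φ).obj L).presheaf.map (homOfLE (le_top : U ≤ ⊤)).op).hom _ _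
  have h2 := hfr.mono hU₂
  rw [rs_rs, hsum] at h2
  have hu := (Z.presheaf.germ U z hzU).hom.isUnit_map (Groth.L18.Frame.isUnit_of_isFrame he' h2)
  rw [map_sum] at hu
  have hmem : ∀ m, (Z.presheaf.germ U z hzU).hom (b m) ∈ IsLocalRing.maximalIdeal (Z.presheaf.stalk z) := fun m => by
    rw [map_mul]
    refine Ideal.mul_mem_left _ _ ((IsLocalRing.mem_maximalIdeal _).2 fun hu' => hex m ?_)
    have h3 : z ∈ Z.basicOpen (ro hU₁ (φ.app W (c m))) := (Z.mem_basicOpen _ z hzU).2 hu'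
    rw [show ro hU₁ (φ.app W (c m)) = Z.presheaf.map (homOfLE hU₁).op (φ.app W (c m)) from rfl,
      Scheme.basicOpen_res, ← Scheme.preimage_basicOpen] at h3
    exact h3.2
  exact (IsLocalRing.mem_maximalIdeal _).1 (Ideal.sum_mem _ fun m _ => hmem m) hu

/-- Two maps agreeing after the morphism defined by sections agree, if combinations of the pulled back
sections define a monomorphism. -/
theorem eq_of_sections {T X'' : Scheme.{u}} {n n' : ℕ} {R K : Type u} [CommRing R] [CommRing K]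
    (g : Z ⟶ X'') {L'' : X''.Modules} (S : Fin (n + 1) → Γ(L'', ⊤))
    (r : X'' ⟶ Groth.L18.PUP.P n R) (τ : (Scheme.Modules.pullback r).obj (Groth.L18.PUP.O1 n R) ≅ L'')
    (hτ : ∀ m, τ.hom.app ⊤ (Groth.L18.PUP.rT r m) = S m)
    (qZ : Z ⟶ Spec (CommRingCat.of K)) (i : Z ⟶ Groth.L18.PUP.P n' K) [Mono i]
    (hi : i ≫ Groth.L18.PUP.pr n' K = qZ) {M : Z.Modules}
    (τi : (Scheme.Modules.pullback i).obj (Groth.L18.PUP.O1 n' K) ≅ M)
    (σ : (Scheme.Modules.pullback g).obj L'' ≅ M) (c : Fin (n' + 1) → Fin (n + 1) → Γ(Spec (CommRingCat.of K), ⊤))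
    (hc : ∀ l, τi.hom.app ⊤ (Groth.L18.PUP.rT i l) =
      ∑ m, qZ.appTop (c l m) • σ.hom.app ⊤ (ProjUP.pullSec g L'' (S m)))
    (a b : T ⟶ Z) (hab : a ≫ g ≫ r = b ≫ g ≫ r) (hq : a ≫ qZ = b ≫ qZ) : a = b := by
  let v : Fin (n + 1) → Γ(M, ⊤) := fun m => σ.hom.app ⊤ (ProjUP.pullSec g L'' (S m))
  have pmap : ∀ {W Y : Scheme.{u}} (f : W ⟶ Y) {P Q : Y.Modules} (ψ : P ⟶ Q) (s : Γ(P, ⊤)),
      ((Scheme.Modules.pullback f).map ψ).app ⊤ (ProjUP.pullSec f P s) = ProjUP.pullSec f Q (ψ.app ⊤ s) :=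
    fun f _ _ ψ s => Groth.L17.BC.PullSec.map_pull f ψ ⊤ s
  have pcomp : ∀ {W Y A : Scheme.{u}} (f : W ⟶ Y) (v : Y ⟶ A) (P : A.Modules) (s : Γ(P, ⊤)),
      ((Scheme.Modules.pullbackComp f v).hom.app P).app ⊤ (ProjUP.pullSec f _ (ProjUP.pullSec v P s)) =
        ProjUP.pullSec (f ≫ v) P s :=
    fun f v P s => Groth.L17.BC.PullSec.comp_pull f v P ⊤ s
  have happ : ∀ {Y : Scheme.{u}} {P Q : Y.Modules} (ψ : P ≅ Q) (s : Γ(P, ⊤)),
      ψ.inv.app ⊤ (ψ.hom.app ⊤ s) = s := fun ψ s =>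
    congr($(congrArg (fun k => Scheme.Modules.Hom.app k ⊤) ψ.hom_inv_id) s)
  -- the pullback of `M` along `x` is the pullback of `O(1)` along `x ≫ g ≫ r`
  have hΘ : ∀ x : T ⟶ Z, ∃ Θ : (Scheme.Modules.pullback x).obj M ≅
      (Scheme.Modules.pullback (x ≫ g ≫ r)).obj (Groth.L18.PUP.O1 n R),
      ∀ m, Θ.hom.app ⊤ (ProjUP.pullSec x M (v m)) =
        ProjUP.pullSec (x ≫ g ≫ r) _ (Groth.L18.PUP.T m) := fun x => by
    refine ⟨(Scheme.Modules.pullback x).mapIso (σ.symm ≪≫ (Scheme.Modules.pullback g).mapIso τ.symm ≪≫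
        (Scheme.Modules.pullbackComp g r).app (Groth.L18.PUP.O1 n R)) ≪≫
      (Scheme.Modules.pullbackComp x (g ≫ r)).app _, fun m => ?_⟩
    show ((Scheme.Modules.pullbackComp x (g ≫ r)).hom.app _).app ⊤
      (((Scheme.Modules.pullback x).map (σ.inv ≫ (Scheme.Modules.pullback g).map τ.inv ≫
        (Scheme.Modules.pullbackComp g r).hom.app _)).app ⊤ (ProjUP.pullSec x M (v m))) = _
    rw [pmap]
    show ((Scheme.Modules.pullbackComp x (g ≫ r)).hom.app _).app ⊤ (ProjUP.pullSec x _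
      (((Scheme.Modules.pullbackComp g r).hom.app _).app ⊤
        (((Scheme.Modules.pullback g).map τ.inv).app ⊤ (σ.inv.app ⊤ (v m))))) = _
    rw [happ σ, pmap, ← hτ, happ τ]
    refine Eq.trans ?_ (pcomp x (g ≫ r) _ _)
    exact congrArg (fun s => ((Scheme.Modules.pullbackComp x (g ≫ r)).hom.app _).app ⊤ (ProjUP.pullSec x _ s))
      (pcomp g r _ _)
  obtain ⟨Θa, hΘa⟩ := hΘ a
  obtain ⟨Θb, hΘb⟩ := hΘ b
  obtain ⟨Ψ, hΨ⟩ : ∃ Ψ : (Scheme.Modules.pullback (a ≫ g ≫ r)).obj (Groth.L18.PUP.O1 n R) ≅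
      (Scheme.Modules.pullback (b ≫ g ≫ r)).obj (Groth.L18.PUP.O1 n R),
      ∀ s : Γ(Groth.L18.PUP.O1 n R, ⊤), Ψ.hom.app ⊤ (ProjUP.pullSec (a ≫ g ≫ r) _ s) =
        ProjUP.pullSec (b ≫ g ≫ r) _ s := by
    rw [hab]; exact ⟨Iso.refl _, fun s => rfl⟩
  let Θ := Θa ≪≫ Ψ ≪≫ Θb.symm
  have hΘv : ∀ m, Θ.hom.app ⊤ (ProjUP.pullSec a M (v m)) = ProjUP.pullSec b M (v m) := fun m => by
    show Θb.inv.app ⊤ (Ψ.hom.app ⊤ (Θa.hom.app ⊤ (ProjUP.pullSec a M (v m)))) = _
    rw [hΘa, hΨ, ← hΘb, happ Θb]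
  have hlin : ∀ (x : T ⟶ Z) (l : Fin (n' + 1)), ProjUP.pullSec x M (τi.hom.app ⊤ (Groth.L18.PUP.rT i l)) =
      ∑ m, (x ≫ qZ).appTop (c l m) • ProjUP.pullSec x M (v m) := fun x l => by
    rw [hc]
    refine (map_sum (((Scheme.Modules.pullbackPushforwardAdjunction x).unit.app M).val.app (op ⊤)).hom _ _).trans ?_
    exact Finset.sum_congr rfl fun m _ => pull_smul x M _ _
  refine (cancel_mono i).1 (Groth.L18.PUP.hom_ext _ _ ?_
    (((Scheme.Modules.pullbackComp a i).app _).symm ≪≫ (Scheme.Modules.pullback a).mapIso τi ≪≫ Θ ≪≫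
      (Scheme.Modules.pullback b).mapIso τi.symm ≪≫ (Scheme.Modules.pullbackComp b i).app _) fun l => ?_)
  · rw [Category.assoc, Category.assoc, hi, hq]
  show ((Scheme.Modules.pullbackComp b i).hom.app _).app ⊤ (((Scheme.Modules.pullback b).map τi.inv).app ⊤
    (Θ.hom.app ⊤ (((Scheme.Modules.pullback a).map τi.hom).app ⊤
      (((Scheme.Modules.pullbackComp a i).inv.app _).app ⊤
        (ProjUP.pullSec (a ≫ i) _ (Groth.L18.PUP.T l)))))) = _
  have h1 : ((Scheme.Modules.pullbackComp a i).inv.app (Groth.L18.PUP.O1 n' K)).app ⊤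
      (ProjUP.pullSec (a ≫ i) _ (Groth.L18.PUP.T l)) = ProjUP.pullSec a _ (Groth.L18.PUP.rT i l) := by
    rw [← pcomp a i]
    exact happ ((Scheme.Modules.pullbackComp a i).app _) _
  rw [h1, pmap, hlin]
  have h2 : Θ.hom.app ⊤ (∑ m, (a ≫ qZ).appTop (c l m) • ProjUP.pullSec a M (v m)) =
      ProjUP.pullSec b M (τi.hom.app ⊤ (Groth.L18.PUP.rT i l)) := by
    rw [hlin, map_sum]
    refine Finset.sum_congr rfl fun m _ => ?_
    rw [Scheme.Modules.Hom.app_smul, hΘv, hq]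
  rw [h2, pmap, happ τi]
  exact pcomp b i _ _

end Groth.L12.CurveFam
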