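import Groth.Agent.L12.CurveFam.FibVA.Sections
import Groth.Agent.L17.BC.Flattening
import Groth.Agent.L18.PBundle.RefineLocal
import Groth.Agent.L18.PBundle.ProjSpaceVA
import Groth.Agent.L18.PBundle.VeryAmpleOps
import Groth.Agent.L22.VeryAmple.Over
import Groth.Agent.L16.Existence.Vanishing
import Groth.Agent.L29.DCoh.PCQCoh
import Groth.Agent.L29.DCoh.RelTor
import Groth.Agent.L21.RR.Twist
import Groth.Agent.S10861

/-!
# Relative very ampleness from the fibres

A line bundle on a proper flat finitely presented family which is very ample on every fibre and has no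
first cohomology there is relatively very ample.
-/

set_option autoImplicit false
set_option linter.style.haveILetI false
set_option linter.unusedSectionVars false
set_option backward.isDefEq.respectTransparency false
set_option backward.isDefEq.respectTransparency.types false

universe u

open CategoryTheory CategoryTheory.Limits AlgebraicGeometry TopologicalSpace Opposite
open scoped TensorProduct

noncomputable section

namespace Groth.L12.CurveFam

open Groth.L18.Frame (IsFrame rs ro rs_rs rs_self rs_smul pull pull_smul pull_rs)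
open Groth.L17.BC Groth.L17.BC.Classes

variable {X S : Scheme.{u}} (f : X ⟶ S) [IsProper f] [LocallyOfFinitePresentation f]

theorem fiberι_preimage_le {V : S.Opens} {s : S} (hs : s ∈ V) :
    (⊤ : (f.fiber s).Opens) ≤ f.fiberι s ⁻¹ᵁ (f ⁻¹ᵁ V) := fun z _ => by
  show f (f.fiberι s z) ∈ V
  have h : f.fiberι s z ∈ f ⁻¹' {s} := by rw [← f.range_fiberι]; exact ⟨z, rfl⟩
  rw [show f (f.fiberι s z) = s from h]
  exact hs

/-- Where base change in degree zero is surjective, sections near the point span the fibre sections. -/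
theorem exists_span_fiber [HasInjectiveResolutions X.Modules] (L : X.Modules) [Coh.IsQCoh L] {V : S.Opens}
    (hV : IsAffineOpen V) {s : S} (hs : s ∈ V)
    (hepi : Epi (CohBC.bc0 f (S.fromSpecResidueField s) (f.fiberToSpecResidueField s) (f.fiberι s) (f.fiber_fac s) L))
    (t : Γ((Scheme.Modules.pullback (f.fiberι s)).obj L, ⊤)) :
    ∃ (N : ℕ) (c : Fin N → Γ(Spec (S.residueField s), ⊤)) (σ : Fin N → Γ(L, f ⁻¹ᵁ V)),
      t = ∑ m, (f.fiberToSpecResidueField s).appTop (c m) •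
        rs _ (fiberι_preimage_le f hs) (pull (f.fiberι s) L (f ⁻¹ᵁ V) (σ m)) := by
  let q := fibreSq (f := f) hV hs
  let g := S.fromSpecResidueField s
  letI : Algebra Γ(S, V) Γ(Spec (S.residueField s), ⊤) := q.φ.hom.toAlgebra
  haveI : Coh.IsQCoh ((Scheme.Modules.pushforward f).obj L) := Groth.L16.QcqsPush.isQCoh_push L f
  let f' := f.fiberToSpecResidueField s
  haveI : IsProper f' := inferInstanceAs (IsProper (pullback.snd f _))
  haveI : Coh.IsQCoh ((Scheme.Modules.pullback (f.fiberι s)).obj L) := Groth.L16.AffineBC.isQCoh_pullback _ _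
  haveI : Coh.IsQCoh ((Scheme.Modules.pushforward f').obj ((Scheme.Modules.pullback (f.fiberι s)).obj L)) :=
    Groth.L16.QcqsPush.isQCoh_push _ f'
  haveI : Coh.IsQCoh ((Scheme.Modules.pullback g).obj ((Scheme.Modules.pushforward f).obj L)) :=
    Groth.L16.AffineBC.isQCoh_pullback _ _
  letI : Module Γ(S, V) Γ((Scheme.Modules.pullback g).obj ((Scheme.Modules.pushforward f).obj L), ⊤) :=
    Module.compHom _ (g.appLE V ⊤ q.le).hom
  haveI : IsScalarTower Γ(S, V) Γ(Spec (S.residueField s), ⊤)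
      Γ((Scheme.Modules.pullback g).obj ((Scheme.Modules.pushforward f).obj L), ⊤) :=
    IsScalarTower.of_algebraMap_smul fun _ _ => rfl
  have hpr : IsBaseChange Γ(Spec (S.residueField s), ⊤)
      (Groth.L16.AffineBC.pullRes g ((Scheme.Modules.pushforward f).obj L) q.le) :=
    Groth.L16.AffineBC.isBaseChange_pull g ((Scheme.Modules.pushforward f).obj L) q.hV q.hV' q.le
  let bc := CohBC.bc0 f g f' (f.fiberι s) (f.fiber_fac s) L
  haveI : Epi bc := hepi
  obtain ⟨x, hx⟩ := Groth.L16.AffineBC.surjective_app_of_epi bc (isAffineOpen_top _) t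
  obtain ⟨z, rfl⟩ := hpr.equiv.surjective x
  subst hx
  induction z using TensorProduct.induction_on with
  | zero => exact ⟨0, Fin.elim0, Fin.elim0, by rw [map_zero, map_zero, Fin.sum_univ_zero]⟩
  | add a b ha hb =>
    obtain ⟨N₁, c₁, σ₁, h₁⟩ := ha
    obtain ⟨N₂, c₂, σ₂, h₂⟩ := hb
    refine ⟨N₁ + N₂, Fin.append c₁ c₂, Fin.append σ₁ σ₂, ?_⟩
    rw [Fin.sum_univ_add]
    simp only [Fin.append_left, Fin.append_right]
    rw [← h₁, ← h₂, map_add, map_add]
  | tmul b u =>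
    refine ⟨1, fun _ => b, fun _ => u, ?_⟩
    rw [Fin.sum_univ_one]
    show bc.app ⊤ (hpr.equiv (b ⊗ₜ[Γ(S, V)] u)) = _
    rw [IsBaseChange.equiv_tmul]
    refine (bc.app_smul b _).trans ?_
    rw [bc0_app_pullRes q L u, q.ψ0_eq]
    rfl

/-- A point of a scheme over an open immersion of bases has residue field that of its image. -/
theorem exists_residue_lift {Y : Scheme.{u}} (h : Y ⟶ S) (s' : Y) (s : S) (hs : h s' = s) :
    ∃ e : Spec (Y.residueField s') ⟶ Spec (S.residueField s),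
      e ≫ S.fromSpecResidueField s = Y.fromSpecResidueField s' ≫ h := by
  subst hs
  exact ⟨Spec.map (h.residueFieldMap s'), by simp⟩

/-- Pullback of a restricted section along a factorisation. -/
theorem pullSec_restrict {Z W : Scheme.{u}} (g : Z ⟶ W) (j : W ⟶ X) (ι : Z ⟶ X) (h : g ≫ j = ι) (L : X.Modules)
    (A : X.Opens) (hj : ⊤ ≤ j ⁻¹ᵁ A) (hA : ⊤ ≤ ι ⁻¹ᵁ A) (x : Γ(L, A)) :
    ((Scheme.Modules.pullbackComp g j).app L ≪≫ (Scheme.Modules.pullbackCongr h).app L).hom.app ⊤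
      (ProjUP.pullSec g ((Scheme.Modules.pullback j).obj L) (rs _ hj (pull j L A x))) = rs _ hA (pull ι L A x) := by
  show ((Scheme.Modules.pullbackCongr h).hom.app L).app ⊤
    (((Scheme.Modules.pullbackComp g j).hom.app L).app ⊤
      (pull g ((Scheme.Modules.pullback j).obj L) ⊤ (rs _ hj (pull j L A x)))) = _
  rw [← pull_rs g _ hj (pull j L A x)]
  have h1 := Groth.L17.BC.PullSec.app_rs ((Scheme.Modules.pullbackComp g j).hom.app L) (g.preimage_mono hj)
    (pull g _ (j ⁻¹ᵁ A) (pull j L A x))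
  refine (congrArg (((Scheme.Modules.pullbackCongr h).hom.app L).app ⊤) h1).trans ?_
  have h2 := Groth.L17.BC.PullSec.comp_pull g j L A x
  refine (congrArg (fun y => ((Scheme.Modules.pullbackCongr h).hom.app L).app ⊤
    (rs _ (g.preimage_mono hj) y)) h2).trans ?_
  exact Groth.L17.BC.PullSec.congr_pull h L A x ⊤ _ _

/-- The map of fibres over a point is a closed immersion if sections separate the fibre of the family. -/
theorem isClosedImmersion_fiberMap {X' Y : Scheme.{u}} (j : X' ⟶ X) [Mono j] (h : Y ⟶ S) (q : X' ⟶ Y) [IsProper q]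
    (hjq : j ≫ f = q ≫ h) {P : Scheme.{u}} (pr : P ⟶ Y) [IsSeparated pr] (r : X' ⟶ P) (hr : r ≫ pr = q)
    (s'' : Y) (s : S) (hs : h s'' = s) (g : f.fiber s ⟶ X') (hgj : g ≫ j = f.fiberι s)
    (hsep : ∀ (T : Scheme.{u}) (a b : T ⟶ f.fiber s), a ≫ g ≫ r = b ≫ g ≫ r →
      a ≫ f.fiberToSpecResidueField s = b ≫ f.fiberToSpecResidueField s → a = b) :
    IsClosedImmersion (CohIII.fiberMapOver r q pr hr s'') := by
  obtain ⟨e, he⟩ := exists_residue_lift h s'' s hs
  let F := CohIII.fiberMapOver r q pr hr s''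
  have hF₁ : F ≫ pullback.fst _ _ = pullback.fst _ _ ≫ r := pullback.lift_fst _ _ _
  have hF₂ : F ≫ pullback.snd _ _ = pullback.snd _ _ := (pullback.lift_snd _ _ _).trans (Category.comp_id _)
  haveI : IsProper F := by
    haveI : IsProper (F ≫ pullback.snd pr _) := by
      rw [hF₂]; exact inferInstanceAs (IsProper (pullback.snd q _))
    exact IsProper.of_comp F (pullback.snd _ _)
  refine (IsClosedImmersion.iff_isProper_and_mono F).2 ⟨inferInstance, ⟨fun {T} a b hab => ?_⟩⟩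
  have h1 : (a ≫ pullback.fst _ _) ≫ r = (b ≫ pullback.fst _ _) ≫ r := by
    rw [Category.assoc, Category.assoc, ← hF₁, reassoc_of% hab]
  have h2 : a ≫ pullback.snd _ _ = b ≫ pullback.snd _ _ := by rw [← hF₂, reassoc_of% hab]
  have lft : ∀ x : T ⟶ q.fiber s'', ((x ≫ pullback.fst _ _) ≫ j) ≫ f =
      ((x ≫ pullback.snd _ _) ≫ e) ≫ S.fromSpecResidueField s := fun x => by
    rw [Category.assoc _ e, he]
    simp only [Category.assoc]
    rw [hjq, ← pullback.condition_assoc (f := q)]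
  let a' : T ⟶ f.fiber s := pullback.lift _ _ (lft a)
  let b' : T ⟶ f.fiber s := pullback.lift _ _ (lft b)
  have hag : a' ≫ g = a ≫ pullback.fst _ _ :=
    (cancel_mono j).1 (by rw [Category.assoc, hgj]; exact pullback.lift_fst _ _ _)
  have hbg : b' ≫ g = b ≫ pullback.fst _ _ :=
    (cancel_mono j).1 (by rw [Category.assoc, hgj]; exact pullback.lift_fst _ _ _)
  have hq' : a' ≫ f.fiberToSpecResidueField s = b' ≫ f.fiberToSpecResidueField s :=
    (pullback.lift_snd _ _ _).trans ((congrArg (· ≫ e) h2).trans (pullback.lift_snd _ _ _).symm)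
  have h3 : a' = b' := hsep T a' b' (by rw [reassoc_of% hag, reassoc_of% hbg, ← Category.assoc, h1, Category.assoc]) hq'
  refine pullback.hom_ext ?_ h2
  rw [← hag, ← hbg, h3]

/-- A line bundle very ample on a fibre without first cohomology there is very ample near the point. -/
theorem exists_nhd_isRelVeryAmple [Flat f] (L : X.Modules) (hL : PicF.IsInvertible L) (s : S)
    (hva : ∃ (n : ℕ) (i : f.fiber s ⟶ Groth.L18.PUP.P n (S.residueField s)), IsImmersion i ∧
      i ≫ Groth.L18.PUP.pr n (S.residueField s) = f.fiberToSpecResidueField s ∧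
      Nonempty ((Scheme.Modules.pullback i).obj (Groth.L18.PUP.O1 n (S.residueField s)) ≅
        CohIII.fiberMod f L s))
    (h1 : Subsingleton (CohIII.fiberH f L s 1)) :
    ∃ U : S.Opens, s ∈ U ∧ RelProj.IsRelVeryAmple (f ∣_ U) (L.restrict (f ⁻¹ᵁ U).ι) := by
  haveI := Groth.L17.PushQCoh.hasInjectiveResolutions X
  have hE : FlatMod.IsFinLocFree L := Groth.L16.Existence.isFinLocFree_of_isInvertible hL
  haveI : Coh.IsQCoh L := Groth.L29.DC.PCQCoh.isQCoh_of_isFinLocFree hE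
  have hfp : CohB1.IsFP L := Groth.L18.LFP.isFP_of_isFinLocFree _ hE
  have hfl : FlatMod.IsFlatOver f L :=
    Groth.L29.DC.RelTor.isFlatOver_of_isFlat f (Groth.L21.RR.isFlat_of_isInvertible hL)
  -- sections near the fibre spanning the coordinate sections
  obtain ⟨_, ⟨V, hV, rfl⟩, hsV, -⟩ :=
    S.isBasis_affineOpens.exists_subset_of_mem_open (Set.mem_univ s) isOpen_univ
  obtain ⟨g₀, l, -⟩ := exists_det f L hfp hfl hV
  have hepi := (epi_bc0_iff_split hV l hsV).2 (l.split_of_vanishing hV hsV h1)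
  obtain ⟨n', i, hi, hip, ⟨τi⟩⟩ := hva
  haveI := hi
  let A := f ⁻¹ᵁ V
  let ι := f.fiberι s
  let qZ : f.fiber s ⟶ Spec (CommRingCat.of (S.residueField s)) := f.fiberToSpecResidueField s
  let M := (Scheme.Modules.pullback ι).obj L
  have hA : (⊤ : (f.fiber s).Opens) ≤ ι ⁻¹ᵁ A := fiberι_preimage_le f hsV
  let P : Γ(L, A) → Γ(M, ⊤) := fun x => rs M hA (pull ι L A x)
  choose N c σ hσ using fun j : Fin (n' + 1) =>
    exists_span_fiber f L hV hsV hepi (τi.hom.app ⊤ (Groth.L18.PUP.rT i j))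
  let n := Fintype.card (Σ j : Fin (n' + 1), Fin (N j))
  let eq : Fin (n + 1) ≃ Option (Σ j : Fin (n' + 1), Fin (N j)) :=
    (Fintype.equivFinOfCardEq (α := Option (Σ j : Fin (n' + 1), Fin (N j))) (by rw [Fintype.card_option])).symm
  let σ' : Fin (n + 1) → Γ(L, A) := fun m => (eq m).elim 0 fun jm => σ jm.1 jm.2
  let c' : Fin (n' + 1) → Fin (n + 1) → Γ(Spec (CommRingCat.of (S.residueField s)), ⊤) := fun j m =>
    (eq m).elim 0 fun jm => if jm.1 = j then c jm.1 jm.2 else 0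
  have hc' : ∀ j, τi.hom.app ⊤ (Groth.L18.PUP.rT i j) = ∑ m, qZ.appTop (c' j m) • P (σ' m) := fun j => by
    refine (hσ j).trans (Eq.symm ?_)
    refine (Fintype.sum_equiv eq _ (fun o => qZ.appTop (o.elim 0 fun jm => if jm.1 = j then c jm.1 jm.2 else 0) •
      P (o.elim 0 fun jm => σ jm.1 jm.2)) fun m => rfl).trans ?_
    rw [Fintype.sum_option, Fintype.sum_sigma, Finset.sum_eq_single j]
    · simp only [Option.elim_none, Option.elim_some, map_zero, zero_smul, zero_add, if_true]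
      rfl
    · intro j' _ hj'
      exact Finset.sum_eq_zero fun m _ => by
        simp only [Option.elim_some, if_neg hj', map_zero, zero_smul]
    · exact fun h => absurd (Finset.mem_univ j) h
  have hfr : ∀ z, ∃ (W : X.Opens) (hW : W ≤ A) (m : Fin (n + 1)), ι z ∈ W ∧ IsFrame L W (rs L hW (σ' m)) := by
    refine exists_frame_of_combination ι hL hA σ' (fun j m => qZ.appTop (c' j m)) fun z => ?_
    obtain ⟨W, j, hz, he⟩ := Groth.L18.PUP.rT_cover i z
    refine ⟨W, j, hz, ?_⟩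
    have h2 := isFrame_map τi he
    rwa [Groth.L17.BC.PullSec.app_rs, hc' j] at h2
  -- an affine neighbourhood over which they generate
  let G : X.Opens := ⨆ p : {p : X.Opens × Fin (n + 1) // ∃ hW : p.1 ≤ A, IsFrame L p.1 (rs L hW (σ' p.2))}, p.1.1
  have hG : ∀ x, f x = s → x ∈ G := fun x hx => by
    obtain ⟨z, rfl⟩ : x ∈ Set.range ι := by rw [f.range_fiberι]; exact hx
    obtain ⟨W, hW, m, hz, he⟩ := hfr z
    exact Opens.mem_iSup.mpr ⟨⟨(W, m), hW, he⟩, hz⟩
  let U₀ : S.Opens := ⟨(f '' (G : Set X)ᶜ)ᶜ, (f.isClosedMap _ G.isOpen.isClosed_compl).isOpen_compl⟩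
  obtain ⟨_, ⟨U, hU, rfl⟩, hsU, hUle⟩ := S.isBasis_affineOpens.exists_subset_of_mem_open
    (show s ∈ V ⊓ U₀ from ⟨hsV, fun ⟨x, hx, e⟩ => hx (hG x e)⟩) (V ⊓ U₀).2
  replace hUle : U ≤ V ⊓ U₀ := hUle
  let j := (f ⁻¹ᵁ U).ι
  let L'' := (Scheme.Modules.pullback j).obj L
  have hL'' : PicF.IsInvertible L'' := Groth.L18.Ample.isInvertible_pullback j hL
  have hj : (⊤ : (f ⁻¹ᵁ U).toScheme.Opens) ≤ j ⁻¹ᵁ A := fun x _ =>
    f.preimage_mono (hUle.trans inf_le_left) x.2
  let S'' : Fin (n + 1) → Γ(L'', ⊤) := fun m => rs L'' hj (pull j L A (σ' m))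
  have hgen : ProjUP.GeneratedBy L'' S'' := Groth.L18.SpecLine.generatedBy_of_frames S'' fun x => by
    obtain ⟨⟨⟨W, m⟩, hW, he⟩, hxW⟩ := Opens.mem_iSup.mp (show j x ∈ G from by
      by_contra hx
      exact (hUle x.2).2 ⟨j x, hx, rfl⟩)
    refine ⟨j ⁻¹ᵁ W, m, hxW, ?_⟩
    rw [rs_rs]
    have h := he.pullback j L
    rw [← pull_rs j L hW (σ' m)] at h
    exact h
  haveI : IsAffine (U : Scheme.{u}) := hU
  let Y := (U : Scheme.{u})
  let q : (f ⁻¹ᵁ U).toScheme ⟶ Spec (CommRingCat.of Γ(Y, ⊤)) := (f ∣_ U) ≫ Y.isoSpec.hom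
  obtain ⟨r, hr, τ, hτ⟩ := Groth.L18.PUP.exists_hom q L'' hL'' S'' hgen
  let g : f.fiber s ⟶ (f ⁻¹ᵁ U).toScheme := IsOpenImmersion.lift j ι (by
    rintro _ ⟨z, rfl⟩
    rw [Scheme.Opens.range_ι]
    exact fiberι_preimage_le f hsU (x := z) trivial)
  have hgj : g ≫ j = ι := IsOpenImmersion.lift_fac _ _ _
  let θ : (Scheme.Modules.pullback g).obj L'' ≅ M :=
    (Scheme.Modules.pullbackComp g j).app L ≪≫ (Scheme.Modules.pullbackCongr hgj).app L
  have hθ : ∀ m, θ.hom.app ⊤ (ProjUP.pullSec g L'' (S'' m)) = P (σ' m) := fun m =>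
    pullSec_restrict g j ι hgj L A hj hA (σ' m)
  -- over the point it is a closed immersion
  haveI : IsProper q := by dsimp [q]; infer_instance
  haveI : IsProper (r ≫ Groth.L18.PUP.pr n Γ(Y, ⊤)) := by rw [hr]; infer_instance
  let sY : Y := ⟨s, hsU⟩
  let s'' : Spec (CommRingCat.of Γ(Y, ⊤)) := Y.isoSpec.hom sY
  have hs'' : (Y.isoSpec.inv ≫ (Scheme.Opens.ι U)) s'' = s := by
    show (Y.isoSpec.hom ≫ Y.isoSpec.inv ≫ (Scheme.Opens.ι U)) sY = s
    rw [Iso.hom_inv_id_assoc]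
    rfl
  have hjq : j ≫ f = q ≫ Y.isoSpec.inv ≫ (Scheme.Opens.ι U) := by simp [q, j]
  have hcl := isClosedImmersion_fiberMap f j (Y.isoSpec.inv ≫ (Scheme.Opens.ι U)) q hjq
    (Groth.L18.PUP.pr n Γ(Y, ⊤)) r hr s'' s hs'' g hgj fun T a b hab hq' =>
      eq_of_sections g S'' r τ hτ qZ i hip τi θ c'
        (fun l => (hc' l).trans (Finset.sum_congr rfl fun m _ => by rw [hθ])) a b hab hq'
  haveI : IsProper r := IsProper.of_comp r (Groth.L18.PUP.pr n Γ(Y, ⊤))
  obtain ⟨U₂, hsU₂, hU₂⟩ := (Groth.Agent.S10861.result r q (Groth.L18.PUP.pr n Γ(Y, ⊤)) hr s'').2 hcl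
  -- the immersion near the point
  let U₃ : S.Opens := (Scheme.Opens.ι U) ''ᵁ (Y.isoSpec.hom ⁻¹ᵁ U₂)
  have hsU₃ : s ∈ U₃ := ⟨sY, hsU₂, rfl⟩
  have h₃U : U₃ ≤ U := Scheme.Opens.ι_image_le _ _
  let k := X.homOfLE (f.preimage_mono h₃U)
  have hkj : k ≫ j = (f ⁻¹ᵁ U₃).ι := X.homOfLE_ι _
  have hkf : k ≫ (f ∣_ U) = (f ∣_ U₃) ≫ S.homOfLE h₃U := by
    rw [← cancel_mono (Scheme.Opens.ι U), Category.assoc, morphismRestrict_ι, ← Category.assoc, hkj,
      Category.assoc, Scheme.homOfLE_ι, morphismRestrict_ι]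
  haveI : IsClosedImmersion (r ∣_ (Groth.L18.PUP.pr n Γ(Y, ⊤) ⁻¹ᵁ U₂)) := hU₂
  haveI : IsImmersion (k ≫ r) := by
    let W := r ⁻¹ᵁ (Groth.L18.PUP.pr n Γ(Y, ⊤) ⁻¹ᵁ U₂)
    have hk : Set.range k ⊆ Set.range W.ι := by
      rintro _ ⟨x, rfl⟩
      rw [Scheme.Opens.range_ι]
      show (r ≫ Groth.L18.PUP.pr n Γ(Y, ⊤)) (k x) ∈ U₂
      rw [hr]
      show Y.isoSpec.hom ((k ≫ (f ∣_ U)) x) ∈ U₂
      rw [hkf]
      obtain ⟨w, hw, hwx⟩ := ((f ∣_ U₃) x).2
      have h4 : (S.homOfLE h₃U) ((f ∣_ U₃) x) = w := (Scheme.Opens.ι U).isOpenEmbedding.injective (by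
        rw [← Scheme.Hom.comp_apply, Scheme.homOfLE_ι]
        exact hwx.symm)
      rw [Scheme.Hom.comp_apply, h4]
      exact hw
    let k' := IsOpenImmersion.lift W.ι k hk
    have hk' : k' ≫ W.ι = k := IsOpenImmersion.lift_fac _ _ _
    haveI : IsOpenImmersion (k' ≫ W.ι) := by rw [hk']; infer_instance
    haveI : IsOpenImmersion k' := IsOpenImmersion.of_comp k' W.ι
    rw [← hk', Category.assoc, ← morphismRestrict_ι]
    infer_instance
  obtain ⟨ε, hε, ⟨εO⟩⟩ := Groth.L22.VeryAmple.exists_iso_over n Y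
  have hP : RelProj.IsRelVeryAmple (Groth.L18.PUP.pr n Γ(Y, ⊤) ≫ Y.isoSpec.inv) (Groth.L18.PUP.O1 n Γ(Y, ⊤)) := by
    rw [← hε]
    exact Groth.L18.PBundle.isRelVeryAmple_of_iso εO.symm
      (Groth.L18.PBundle.isRelVeryAmple_comp_immersion ε.hom (Groth.L18.PBundle.isRelVeryAmple_twistOver n Y))
  have hk₁ := Groth.L18.PBundle.isRelVeryAmple_comp_immersion (k ≫ r) hP
  have hkr : (k ≫ r) ≫ Groth.L18.PUP.pr n Γ(Y, ⊤) ≫ Y.isoSpec.inv = (f ∣_ U₃) ≫ S.homOfLE h₃U := by
    rw [Category.assoc, reassoc_of% hr]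
    simp only [q, Category.assoc, Iso.hom_inv_id, Category.comp_id]
    exact hkf
  rw [hkr] at hk₁
  refine ⟨U₃, hsU₃, Groth.L18.PBundle.isRelVeryAmple_of_iso ?_
    (Groth.L18.PBundle.isRelVeryAmple_of_comp hk₁)⟩
  exact (Scheme.Modules.restrictFunctorIsoPullback (f ⁻¹ᵁ U₃).ι).app L ≪≫
    ((Scheme.Modules.pullbackCongr hkj).app L).symm ≪≫ ((Scheme.Modules.pullbackComp k j).app L).symm ≪≫
    (Scheme.Modules.pullback k).mapIso τ.symm ≪≫ (Scheme.Modules.pullbackComp k r).app _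

/-- Fibrewise very ample line bundles without first cohomology on the fibres are relatively very ample. -/
theorem isRelVeryAmple_of_fibres [Flat f] (L : X.Modules) (hL : PicF.IsInvertible L)
    (hva : ∀ s : S, ∃ (n : ℕ) (i : f.fiber s ⟶ Groth.L18.PUP.P n (S.residueField s)), IsImmersion i ∧
      i ≫ Groth.L18.PUP.pr n (S.residueField s) = f.fiberToSpecResidueField s ∧
      Nonempty ((Scheme.Modules.pullback i).obj (Groth.L18.PUP.O1 n (S.residueField s)) ≅
        CohIII.fiberMod f L s))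
    (h1 : ∀ s : S, Subsingleton (CohIII.fiberH f L s 1)) :
    RelProj.IsRelVeryAmple f L :=
  Groth.L18.PBundle.isRelVeryAmple_of_openCover hL fun s => exists_nhd_isRelVeryAmple f L hL s (hva s) (h1 s)

end Groth.L12.CurveFam
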