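import Groth.Agent.L12.CurveFam.FibVA.Main

/-!
# Projective space over the spectrum of a ring
-/

set_option autoImplicit false
set_option linter.style.haveILetI false
set_option backward.isDefEq.respectTransparency false
set_option backward.isDefEq.respectTransparency.types false

universe u

open CategoryTheory CategoryTheory.Limits AlgebraicGeometry TopologicalSpace

noncomputable section

namespace Groth.L12.CurveFam

open Groth.L16.ProjSpace (isoOver map)

/-- An immersion into projective space over `Spec R` in the form of `ℙⁿ_R`. -/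
theorem exists_pup_of_isRelVeryAmplePn {R : Type u} [CommRing R] {Z : Scheme.{u}}
    (q : Z ⟶ Spec (CommRingCat.of R)) {M : Z.Modules} (h : RelAmple.IsRelVeryAmplePn q M) :
    ∃ (n : ℕ) (i : Z ⟶ Groth.L18.PUP.P n R), IsImmersion i ∧ i ≫ Groth.L18.PUP.pr n R = q ∧
      Nonempty ((Scheme.Modules.pullback i).obj (Groth.L18.PUP.O1 n R) ≅ M) := by
  obtain ⟨n, i, hi, hq, ⟨τ⟩⟩ := h
  haveI := hi
  let e := isoOver n R
  let φ : ULift.{u} ℤ →+* R := (algebraMap ℤ R).comp ULift.ringEquiv.toRingHom
  have h1 : e.hom ≫ pullback.fst (CohB1.ProjSpace.toSpec n (ULift.{u} ℤ))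
      (specULiftZIsTerminal.from (Spec (CommRingCat.of R))) = map n φ :=
    (Groth.L16.ProjSpace.isPullback_over n (R := R)).isoPullback_hom_fst
  obtain ⟨ε⟩ := Groth.L16.ProjSpace.nonempty_pullback_twist_iso n φ 1
  let E : (Scheme.Modules.pullback e.hom).obj (Twist.twistOver n (Spec (CommRingCat.of R)) 1) ≅
      Groth.L18.PUP.O1 n R :=
    (Scheme.Modules.pullbackComp _ _).app _ ≪≫ (Scheme.Modules.pullbackCongr h1).app _ ≪≫ ε
  refine ⟨n, i ≫ e.inv, inferInstance, ?_, ⟨?_⟩⟩
  · show (i ≫ e.inv) ≫ CohB1.ProjSpace.toSpec n R = q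
    rw [← Groth.L16.ProjSpace.isoOver_hom_toBase (n := n) (R := R), Category.assoc, Iso.inv_hom_id_assoc]
    exact hq
  · exact (Scheme.Modules.pullback (i ≫ e.inv)).mapIso E.symm ≪≫
      (Scheme.Modules.pullbackComp (i ≫ e.inv) e.hom).app _ ≪≫
      (Scheme.Modules.pullbackCongr (show (i ≫ e.inv) ≫ e.hom = i by
        rw [Category.assoc, Iso.inv_hom_id, Category.comp_id])).app _ ≪≫ τ.symm

end Groth.L12.CurveFam
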